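import Cfsg.Agent.H446.FC.V7

/-!
# `F₄(q)`, `q` even: the centres of the radicals of the end parabolics (helper446, S2452 row `F₄(q)`, `q` even, box U4)

`K` a field of characteristic 2 with all square roots.

* `z_four`: every `u ∈ Z(V₄) = ⟨X_r : r = 41, …, 47⟩` is conjugate under `P_{B₃}` to `X 44 a * X 47 b`;
* `z_one`: every `u ∈ Z(V₁) = ⟨X_r : r = 29, 36, 38, 39, 40, 44, 47⟩` is conjugate under `P_{C₃}` to `X 44 a * X 47 b`.
-/

set_option autoImplicit false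
set_option linter.unusedSectionVars false
set_option linter.unusedSimpArgs false
set_option linter.unnecessarySeqFocus false
set_option linter.unreachableTactic false
set_option linter.unusedTactic false

namespace Cfsg.Agent.H446.FE

open CoxeterSystem Cfsg.Agent.ChevalleyStructure.CoxeterGeom Cfsg.Agent.Tits.Roots Cfsg.Agent.Tits.Core
  Cfsg.Agent.Tits.Exchange Cfsg.Agent.Nodes.Reps Cfsg.Agent.Nodes.BNOf Cfsg.Agent.Nodes.StabComb
  Cfsg.Agent.Nodes.Bruhat Cfsg.Agent.Nodes.OppDec Cfsg.Agent.Nodes.LeviDec Cfsg.Agent.Nodes.NormX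
  Cfsg.Agent.Nodes.Coroot Cfsg.Agent.Nodes.RGDChev Cfsg.Agent.KFacts.RgdPar Cfsg.Agent.KFacts.RgdTI
  Cfsg.Agent.KFacts.RgdCent Cfsg.Agent.KFacts.RgdChevCoord Cfsg.Agent.Nodes.ChevCls
  Cfsg.Agent.OddHalf.NI.ModelChev Cfsg.Agent.H225.PPow
open Cfsg.Lie Cfsg.Agent.ChevalleyStructure Cfsg.Agent.ChevalleyStructure.Elts
  Cfsg.Agent.ChevalleyStructure.RootVec Cfsg.Agent.ChevalleyStructure.NPerm
  Cfsg.Agent.ChevalleyStructure.CoxeterGeomTypes
open Cfsg.Agent.H701.F43.Cent (hF cF)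
open Cfsg.Agent.H520.FC Cfsg.Agent.H446.FC

universe u

variable {K : Type u} [Field K]

/-! ### the parabolic of type `B₃` -/

/-- the coordinates 41, …, 47 -/
theorem norm_E7 {a b c d e f g : K} (h : a ≠ 0 ∨ b ≠ 0 ∨ c ≠ 0 ∨ e ≠ 0 ∨ f ≠ 0 ∨ g ≠ 0) :
    ∃ a' b' c' d' e' f' g' : K, a' ≠ 0 ∧
      cls (PK K J0) (E7 a' b' c' d' e' f' g') = cls (PK K J0) (E7 a b c d e f g) := by
  by_cases ha : a = 0
  swap
  · exact ⟨a, b, c, d, e, f, g, ha, rfl⟩
  subst ha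
  by_cases hb : b = 0
  swap
  · obtain ⟨h1, -⟩ := step (by decide) (c23 1 0 b c d e f g)
    exact ⟨_, _, _, _, _, _, _, by simpa using hb, h1⟩
  by_cases hc : c = 0
  swap
  · obtain ⟨h1, -⟩ := step (by decide) (c21 1 0 b c d e f g)
    exact ⟨_, _, _, _, _, _, _, by simpa using hc, h1⟩
  by_cases he : e = 0
  swap
  · obtain ⟨h1, -⟩ := step (by decide) (c16 1 0 b c d e f g)
    exact ⟨_, _, _, _, _, _, _, by simpa using he, h1⟩
  by_cases hf : f = 0
  swap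
  · obtain ⟨h1, -⟩ := step (by decide) (c15 1 0 b c d e f g)
    exact ⟨_, _, _, _, _, _, _, by simpa using hf, h1⟩
  subst hb hc he hf
  have hg : g ≠ 0 := by simpa using h
  obtain ⟨h1, -⟩ := step (by decide) (c23 1 0 0 0 d 0 0 g)
  obtain ⟨h4, -⟩ := step (by decide) (c15 1 (0 - 1 * 0) 0 0 d 0 (0 - 1 * g) g)
  refine ⟨_, _, _, _, _, _, _, ?_, h4.trans h1⟩
  simpa using hg

theorem E7_two (d g : K) : E7 0 0 0 d 0 0 g = X 44 d * X 47 g := by
  rw [← E_single (show 44 ∈ L7 by decide), ← E_single (show 47 ∈ L7 by decide), ← E_add, E7]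
  refine E_congr fun r hr => ?_
  simp only [L7, List.mem_cons, List.not_mem_nil, or_false] at hr
  rcases hr with rfl | rfl | rfl | rfl | rfl | rfl | rfl <;> simp [v7, Pi.single_apply]

theorem mem_cls_self {Y : Type*} [Group Y] (P : Subgroup Y) (u : Y) : u ∈ cls P u := ⟨1, one_mem _, by group⟩

/-- **`Z(V₄)`** -/
theorem z_four [Finite K] (h2 : (2 : K) = 0) {u : ↥(chevF4.group K)}
    (hu : u ∈ RGD.Sup (XX chevF4 4 K) {x | x ∈ NotJ cF hF.isCartan {k | k ≠ 0} ∧ 2 ≤ x 0}) :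
    ∃ a b : K, X 44 a * X 47 b ∈ cls (PK K {k | k ≠ 0}) u := by
  obtain ⟨a, b, c, d, e, f, g, rfl⟩ := mem_layer hu
  by_cases h : a ≠ 0 ∨ b ≠ 0 ∨ c ≠ 0 ∨ e ≠ 0 ∨ f ≠ 0 ∨ g ≠ 0
  swap
  · push Not at h
    obtain ⟨rfl, rfl, rfl, rfl, rfl, rfl⟩ := h
    exact ⟨d, 0, by rw [← E7_two]; exact mem_cls_self _ _⟩
  obtain ⟨a', b', c', d', e', f', g', ha, h3⟩ := norm_E7 (d := d) h
  obtain ⟨g'', h4, -⟩ := norm_two ha b' c' d' e' f' g'
  rw [← h3, ← h4]
  by_cases hg : g'' = 0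
  · subst hg
    obtain ⟨h5, -⟩ := step (by decide) (c29 1 a' 0 0 0 0 0 0)
    obtain ⟨h6, -⟩ := step (by decide) (c18 (-1) a' 0 0 (0 - 1 * a') 0 0 (0 - 2 * 1 * 0 + 1 ^ 2 * a'))
    refine ⟨0, a', ?_⟩
    rw [← h5, ← h6]
    have e1 : a' - 2 * -1 * (0 - 1 * a') + (-1) ^ 2 * (0 - 2 * 1 * 0 + 1 ^ 2 * a') = 0 := by ring
    have e2 : 0 - 1 * a' - -1 * (0 - 2 * 1 * 0 + 1 ^ 2 * a') = 0 := by ring
    have e3 : 0 - 2 * 1 * 0 + 1 ^ 2 * a' = a' := by ring
    rw [e1, e2, e3, ← E7_two]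
    exact mem_cls_self _ _
  · -- `w² = a / g`
    have hch : CharP K 2 := CharTwo.of_one_ne_zero_of_two_eq_zero one_ne_zero h2
    obtain ⟨w, hw⟩ := FiniteField.isSquare_of_char_two (ringChar.eq K 2) (a' / g'')
    obtain ⟨h6, -⟩ := step (by decide) (c18 w a' 0 0 0 0 0 g'')
    refine ⟨0 - w * g'', g'', ?_⟩
    have e1 : a' - 2 * w * 0 + w ^ 2 * g'' = 0 := by
      have : w ^ 2 * g'' = a' := by rw [pow_two, ← hw, div_mul_cancel₀ _ hg]
      rw [this]
      linear_combination a' * h2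
    rw [← h6, e1, ← E7_two]
    exact mem_cls_self _ _

theorem mem_target {P : Subgroup ↥(chevF4.group K)} {u : ↥(chevF4.group K)}
    (h : ∃ a b : K, X 44 a * X 47 b ∈ cls P u) :
    ∃ g ∈ P, g * u * g⁻¹ ∈ XX chevF4 4 K (vec chevF4 4 47) ⊔ XX chevF4 4 K (vec chevF4 4 44) := by
  obtain ⟨a, b, g, hg, h⟩ := h
  refine ⟨g, hg, ?_⟩
  rw [h]
  exact mul_mem (Subgroup.mem_sup_right (X_mem_XX (by decide +kernel) a))
    (Subgroup.mem_sup_left (X_mem_XX (by decide +kernel) b))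

/-! ### the parabolic of type `C₃` -/

/-- the roots of `Z(V₁)` -/
def L1 : List ℕ := [29, 36, 38, 39, 40, 44, 47]

theorem lt_of_L1 {r : ℕ} (hr : r ∈ L1) : r < 48 := by
  simp only [L1, List.mem_cons, List.not_mem_nil, or_false] at hr
  omega

/-- the roots of `C₃` used below -/
def S11 : List ℕ := [6, 10, 12, 13, 14, 33, 34, 35, 37, 41]

/-- the commutators without the even constants -/
def odd (s r : ℕ) : List (ℕ × ℤ × ℕ × ℕ) := (chevF4.commTerms s r).filter fun p => decide (p.2.1 % 2 ≠ 0)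

theorem comm_tab1 : ∀ s ∈ L1, ∀ r ∈ L1, odd s r = [] ∧ r ≠ chevF4.neg s := by decide +kernel

theorem int_even (h2 : (2 : K) = 0) {n : ℤ} (hn : n % 2 = 0) : (n : K) = 0 := by
  obtain ⟨m, rfl⟩ := Int.dvd_of_emod_eq_zero hn
  push_cast
  rw [h2, zero_mul]

/-- the commutator relation in characteristic 2 -/
theorem rel2 (h2 : (2 : K) = 0) {s r : ℕ} (hs : s < 48) (hr : r < 48) (h1 : r ≠ s) (h3 : r ≠ chevF4.neg s) (u t : K) :
    (X s u)⁻¹ * X r t * X s u = X r t * ((odd s r).map fun p => X p.1 (u ^ p.2.2.1 * t ^ p.2.2.2)).prod := by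
  have hodd : ∀ n : ℤ, n % 2 ≠ 0 → (n : K) = 1 := by
    intro n hn
    have h4 : (n - 1) % 2 = 0 := by omega
    have h5 := int_even h2 h4
    push_cast at h5
    exact sub_eq_zero.1 h5
  have hneg : -u = u := by linear_combination (-u) * h2
  rw [rel hs hr h1 h3, odd]
  congr 1
  rw [hneg]
  generalize chevF4.commTerms s r = l
  induction l with
  | nil => rfl
  | cons p l ih =>
    rw [List.map_cons, List.prod_cons, ih, List.filter_cons]
    by_cases hp : p.2.1 % 2 ≠ 0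
    · rw [if_pos (by simpa using hp), List.map_cons, List.prod_cons, hodd _ hp, one_mul]
    · rw [if_neg (by simpa using hp), int_even h2 (by simpa using hp), zero_mul, zero_mul, X_zero, one_mul]

theorem X_comm1 (h2 : (2 : K) = 0) {r s : ℕ} (hr : r ∈ L1) (hs : s ∈ L1) (t u : K) : Commute (X r t) (X s u) := by
  by_cases h : r = s
  · subst h
    show X r t * X r u = X r u * X r t
    rw [← X_add, ← X_add, add_comm]
  · have h1 := rel2 h2 (lt_of_L1 hs) (lt_of_L1 hr) h (comm_tab1 s hs r hr).2 u t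
    rw [(comm_tab1 s hs r hr).1, List.map_nil, List.prod_nil, mul_one] at h1
    show X r t * X s u = X s u * X r t
    rw [mul_assoc, inv_mul_eq_iff_eq_mul] at h1
    exact h1

theorem EL_add1 (h2 : (2 : K) = 0) (l : List ℕ) (hl : ∀ r ∈ l, r ∈ L1) (t t' : ℕ → K) :
    EL l (t + t') = EL l t * EL l t' := by
  induction l with
  | nil => simp [EL]
  | cons r l ih =>
    have h1 := ih fun s hs => hl s (List.mem_cons_of_mem _ hs)
    have h3 : Commute (X r (t' r)) (EL l t) := by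
      refine Commute.list_prod_right _ _ fun x hx => ?_
      obtain ⟨s, hs, rfl⟩ := List.mem_map.1 hx
      exact X_comm1 h2 (hl r List.mem_cons_self) (hl s (List.mem_cons_of_mem _ hs)) _ _
    have e : ∀ f : ℕ → K, EL (r :: l) f = X r (f r) * EL l f := fun f => by simp [EL]
    rw [e, e, e, h1, Pi.add_apply, X_add]
    calc X r (t r) * X r (t' r) * (EL l t * EL l t') = X r (t r) * (X r (t' r) * EL l t) * EL l t' := by group
      _ = X r (t r) * (EL l t * X r (t' r)) * EL l t' := by rw [h3.eq]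
      _ = X r (t r) * EL l t * (X r (t' r) * EL l t') := by group

theorem EL1_add (h2 : (2 : K) = 0) (t t' : ℕ → K) : EL L1 (t + t') = EL L1 t * EL L1 t' :=
  EL_add1 h2 L1 (fun _ h => h) t t'

theorem EL1_congr {t t' : ℕ → K} (h : ∀ r ∈ L1, t r = t' r) : EL L1 t = EL L1 t' := by
  unfold EL
  congr 1
  exact List.map_congr_left fun r hr => by rw [h r hr]

theorem EL1_zero : EL L1 (0 : ℕ → K) = 1 := by simp [EL, L1, X_zero]

theorem EL1_single {r : ℕ} (hr : r ∈ L1) (a : K) : EL L1 (Pi.single r a) = X r a := by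
  simp only [L1, List.mem_cons, List.not_mem_nil, or_false] at hr
  rcases hr with rfl | rfl | rfl | rfl | rfl | rfl | rfl <;>
  simp [EL, L1, X_zero, Pi.single_apply]

/-- the image of `X r a` under `(X s u)⁻¹` -/
noncomputable def Mat1 (s : ℕ) (u : K) (r : ℕ) (a : K) : ℕ → K :=
  Pi.single r a + ((odd s r).map fun p => (Pi.single p.1 (u ^ p.2.2.1 * a ^ p.2.2.2) : ℕ → K)).sum

theorem S11_tab : ∀ s ∈ S11, ∀ r ∈ L1, s < 48 ∧ r ≠ s ∧ r ≠ chevF4.neg s ∧ ∀ p ∈ odd s r, p.1 ∈ L1 := by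
  decide +kernel

theorem EL1_sum (h2 : (2 : K) = 0) {α : Type*} (l : List α) (n : α → ℕ) (c : α → K) (hl : ∀ p ∈ l, n p ∈ L1) :
    EL L1 ((l.map fun p => (Pi.single (n p) (c p) : ℕ → K)).sum) = (l.map fun p => X (n p) (c p)).prod := by
  induction l with
  | nil => simp [EL1_zero]
  | cons p l ih =>
    rw [List.map_cons, List.map_cons, List.sum_cons, List.prod_cons, EL1_add h2, EL1_single (hl p List.mem_cons_self),
      ih fun q hq => hl q (List.mem_cons_of_mem _ hq)]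

theorem conj_X1 (h2 : (2 : K) = 0) {s r : ℕ} (hs : s ∈ S11) (hr : r ∈ L1) (u a : K) :
    (X s u)⁻¹ * X r a * X s u = EL L1 (Mat1 s u r a) := by
  obtain ⟨h0, h1, h3, h4⟩ := S11_tab s hs r hr
  rw [rel2 h2 h0 (lt_of_L1 hr) h1 h3, Mat1, EL1_add h2, EL1_single hr,
    EL1_sum h2 _ (fun p : ℕ × ℤ × ℕ × ℕ => p.1) (fun p => u ^ p.2.2.1 * a ^ p.2.2.2) h4]

theorem conj_EL1 (h2 : (2 : K) = 0) {s : ℕ} (hs : s ∈ S11) (u : K) (t : ℕ → K) (l : List ℕ) (hl : ∀ r ∈ l, r ∈ L1) :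
    (X s u)⁻¹ * EL l t * X s u = EL L1 ((l.map fun r => Mat1 s u r (t r)).sum) := by
  induction l with
  | nil =>
    show (X s u)⁻¹ * 1 * X s u = EL L1 0
    rw [EL1_zero]
    group
  | cons r l ih =>
    have e : EL (r :: l) t = X r (t r) * EL l t := by simp [EL]
    rw [e, List.map_cons, List.sum_cons, EL1_add h2, ← ih fun q hq => hl q (List.mem_cons_of_mem _ hq),
      ← conj_X1 h2 hs (hl r List.mem_cons_self)]
    group

/-- coordinates as a tuple -/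
def w7 (a b c d e f g : K) : ℕ → K := fun j =>
  if j = 29 then a else if j = 36 then b else if j = 38 then c else if j = 39 then d else if j = 40 then e else
  if j = 44 then f else if j = 47 then g else 0

/-- the element with the coordinates `a, …, g` -/
noncomputable def F7 (a b c d e f g : K) : ↥(chevF4.group K) := EL L1 (w7 a b c d e f g)

theorem EL1_eq (t : ℕ → K) : EL L1 t = F7 (t 29) (t 36) (t 38) (t 39) (t 40) (t 44) (t 47) := by
  refine EL1_congr fun r hr => ?_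
  simp only [L1, List.mem_cons, List.not_mem_nil, or_false] at hr
  rcases hr with rfl | rfl | rfl | rfl | rfl | rfl | rfl <;> simp [w7]

theorem conj_F7 (h2 : (2 : K) = 0) {s : ℕ} (hs : s ∈ S11) (u a b c d e f g a' b' c' d' e' f' g' : K)
    (h : ∀ j ∈ L1, Mat1 s u 29 a j + (Mat1 s u 36 b j + (Mat1 s u 38 c j + (Mat1 s u 39 d j + (Mat1 s u 40 e j +
      (Mat1 s u 44 f j + Mat1 s u 47 g j))))) = w7 a' b' c' d' e' f' g' j) :
    (X s u)⁻¹ * F7 a b c d e f g * X s u = F7 a' b' c' d' e' f' g' := by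
  rw [F7, conj_EL1 h2 hs u _ L1 (fun _ h => h)]
  refine EL1_congr fun r hr => ?_
  rw [← h r hr]
  simp [L1, w7]

theorem o6 : odd 6 29 = [] ∧
    odd 6 36 = [] ∧
    odd 6 38 = [] ∧
    odd 6 39 = [] ∧
    odd 6 40 = [] ∧
    odd 6 44 = [(29, -1, 1, 1), (47, -1, 1, 2)] ∧
    odd 6 47 = [] := by decide +kernel

theorem d6 (h2 : (2 : K) = 0) (u a b c d e f g : K) :
    (X 6 u)⁻¹ * F7 a b c d e f g * X 6 u = F7 (a + u * f) b c d e f (g + u * f ^ 2) :=
  conj_F7 h2 (by decide) u a b c d e f g _ _ _ _ _ _ _ (by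
    obtain ⟨h1, h3, h4, h5, h6, h7, h8⟩ := o6
    intro j hj
    simp only [Mat1, h1, h3, h4, h5, h6, h7, h8]
    simp only [L1, List.mem_cons, List.not_mem_nil, or_false] at hj
    rcases hj with rfl | rfl | rfl | rfl | rfl | rfl | rfl <;> simp [w7, Pi.single_apply] <;> ring)

theorem o10 : odd 10 29 = [] ∧
    odd 10 36 = [] ∧
    odd 10 38 = [] ∧
    odd 10 39 = [] ∧
    odd 10 40 = [(29, -1, 1, 1)] ∧
    odd 10 44 = [(36, -1, 1, 1)] ∧
    odd 10 47 = [] := by decide +kernel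

theorem d10 (h2 : (2 : K) = 0) (u a b c d e f g : K) :
    (X 10 u)⁻¹ * F7 a b c d e f g * X 10 u = F7 (a + u * e) (b + u * f) c d e f g :=
  conj_F7 h2 (by decide) u a b c d e f g _ _ _ _ _ _ _ (by
    obtain ⟨h1, h3, h4, h5, h6, h7, h8⟩ := o10
    intro j hj
    simp only [Mat1, h1, h3, h4, h5, h6, h7, h8]
    simp only [L1, List.mem_cons, List.not_mem_nil, or_false] at hj
    rcases hj with rfl | rfl | rfl | rfl | rfl | rfl | rfl <;> simp [w7, Pi.single_apply] <;> ring)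

theorem o12 : odd 12 29 = [] ∧
    odd 12 36 = [] ∧
    odd 12 38 = [] ∧
    odd 12 39 = [(29, 1, 1, 1)] ∧
    odd 12 40 = [] ∧
    odd 12 44 = [(38, -1, 1, 1)] ∧
    odd 12 47 = [] := by decide +kernel

theorem d12 (h2 : (2 : K) = 0) (u a b c d e f g : K) :
    (X 12 u)⁻¹ * F7 a b c d e f g * X 12 u = F7 (a + u * d) b (c + u * f) d e f g :=
  conj_F7 h2 (by decide) u a b c d e f g _ _ _ _ _ _ _ (by
    obtain ⟨h1, h3, h4, h5, h6, h7, h8⟩ := o12
    intro j hj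
    simp only [Mat1, h1, h3, h4, h5, h6, h7, h8]
    simp only [L1, List.mem_cons, List.not_mem_nil, or_false] at hj
    rcases hj with rfl | rfl | rfl | rfl | rfl | rfl | rfl <;> simp [w7, Pi.single_apply] <;> ring)

theorem o13 : odd 13 29 = [] ∧
    odd 13 36 = [] ∧
    odd 13 38 = [(29, 1, 1, 1)] ∧
    odd 13 39 = [] ∧
    odd 13 40 = [] ∧
    odd 13 44 = [(39, 1, 1, 1)] ∧
    odd 13 47 = [] := by decide +kernel

theorem d13 (h2 : (2 : K) = 0) (u a b c d e f g : K) :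
    (X 13 u)⁻¹ * F7 a b c d e f g * X 13 u = F7 (a + u * c) b c (d + u * f) e f g :=
  conj_F7 h2 (by decide) u a b c d e f g _ _ _ _ _ _ _ (by
    obtain ⟨h1, h3, h4, h5, h6, h7, h8⟩ := o13
    intro j hj
    simp only [Mat1, h1, h3, h4, h5, h6, h7, h8]
    simp only [L1, List.mem_cons, List.not_mem_nil, or_false] at hj
    rcases hj with rfl | rfl | rfl | rfl | rfl | rfl | rfl <;> simp [w7, Pi.single_apply] <;> ring)

theorem o14 : odd 14 29 = [] ∧
    odd 14 36 = [(29, -1, 1, 1)] ∧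
    odd 14 38 = [] ∧
    odd 14 39 = [] ∧
    odd 14 40 = [] ∧
    odd 14 44 = [(40, 1, 1, 1)] ∧
    odd 14 47 = [] := by decide +kernel

theorem d14 (h2 : (2 : K) = 0) (u a b c d e f g : K) :
    (X 14 u)⁻¹ * F7 a b c d e f g * X 14 u = F7 (a + u * b) b c d (e + u * f) f g :=
  conj_F7 h2 (by decide) u a b c d e f g _ _ _ _ _ _ _ (by
    obtain ⟨h1, h3, h4, h5, h6, h7, h8⟩ := o14
    intro j hj
    simp only [Mat1, h1, h3, h4, h5, h6, h7, h8]
    simp only [L1, List.mem_cons, List.not_mem_nil, or_false] at hj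
    rcases hj with rfl | rfl | rfl | rfl | rfl | rfl | rfl <;> simp [w7, Pi.single_apply] <;> ring)

theorem o33 : odd 33 29 = [(36, -1, 1, 1)] ∧
    odd 33 36 = [] ∧
    odd 33 38 = [] ∧
    odd 33 39 = [] ∧
    odd 33 40 = [(44, 1, 1, 1)] ∧
    odd 33 44 = [] ∧
    odd 33 47 = [] := by decide +kernel

theorem d33 (h2 : (2 : K) = 0) (u a b c d e f g : K) :
    (X 33 u)⁻¹ * F7 a b c d e f g * X 33 u = F7 a (b + u * a) c d e (f + u * e) g :=
  conj_F7 h2 (by decide) u a b c d e f g _ _ _ _ _ _ _ (by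
    obtain ⟨h1, h3, h4, h5, h6, h7, h8⟩ := o33
    intro j hj
    simp only [Mat1, h1, h3, h4, h5, h6, h7, h8]
    simp only [L1, List.mem_cons, List.not_mem_nil, or_false] at hj
    rcases hj with rfl | rfl | rfl | rfl | rfl | rfl | rfl <;> simp [w7, Pi.single_apply] <;> ring)

theorem o34 : odd 34 29 = [(38, 1, 1, 1)] ∧
    odd 34 36 = [] ∧
    odd 34 38 = [] ∧
    odd 34 39 = [(44, 1, 1, 1)] ∧
    odd 34 40 = [] ∧
    odd 34 44 = [] ∧
    odd 34 47 = [] := by decide +kernel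

theorem d34 (h2 : (2 : K) = 0) (u a b c d e f g : K) :
    (X 34 u)⁻¹ * F7 a b c d e f g * X 34 u = F7 a b (c + u * a) d e (f + u * d) g :=
  conj_F7 h2 (by decide) u a b c d e f g _ _ _ _ _ _ _ (by
    obtain ⟨h1, h3, h4, h5, h6, h7, h8⟩ := o34
    intro j hj
    simp only [Mat1, h1, h3, h4, h5, h6, h7, h8]
    simp only [L1, List.mem_cons, List.not_mem_nil, or_false] at hj
    rcases hj with rfl | rfl | rfl | rfl | rfl | rfl | rfl <;> simp [w7, Pi.single_apply] <;> ring)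

theorem o35 : odd 35 29 = [(39, 1, 1, 1)] ∧
    odd 35 36 = [] ∧
    odd 35 38 = [(44, -1, 1, 1)] ∧
    odd 35 39 = [] ∧
    odd 35 40 = [] ∧
    odd 35 44 = [] ∧
    odd 35 47 = [] := by decide +kernel

theorem d35 (h2 : (2 : K) = 0) (u a b c d e f g : K) :
    (X 35 u)⁻¹ * F7 a b c d e f g * X 35 u = F7 a b c (d + u * a) e (f + u * c) g :=
  conj_F7 h2 (by decide) u a b c d e f g _ _ _ _ _ _ _ (by
    obtain ⟨h1, h3, h4, h5, h6, h7, h8⟩ := o35
    intro j hj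
    simp only [Mat1, h1, h3, h4, h5, h6, h7, h8]
    simp only [L1, List.mem_cons, List.not_mem_nil, or_false] at hj
    rcases hj with rfl | rfl | rfl | rfl | rfl | rfl | rfl <;> simp [w7, Pi.single_apply] <;> ring)

theorem o37 : odd 37 29 = [(40, -1, 1, 1)] ∧
    odd 37 36 = [(44, -1, 1, 1)] ∧
    odd 37 38 = [] ∧
    odd 37 39 = [] ∧
    odd 37 40 = [] ∧
    odd 37 44 = [] ∧
    odd 37 47 = [] := by decide +kernel

theorem d37 (h2 : (2 : K) = 0) (u a b c d e f g : K) :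
    (X 37 u)⁻¹ * F7 a b c d e f g * X 37 u = F7 a b c d (e + u * a) (f + u * b) g :=
  conj_F7 h2 (by decide) u a b c d e f g _ _ _ _ _ _ _ (by
    obtain ⟨h1, h3, h4, h5, h6, h7, h8⟩ := o37
    intro j hj
    simp only [Mat1, h1, h3, h4, h5, h6, h7, h8]
    simp only [L1, List.mem_cons, List.not_mem_nil, or_false] at hj
    rcases hj with rfl | rfl | rfl | rfl | rfl | rfl | rfl <;> simp [w7, Pi.single_apply] <;> ring)

theorem o41 : odd 41 29 = [(44, -1, 1, 1), (47, 1, 1, 2)] ∧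
    odd 41 36 = [] ∧
    odd 41 38 = [] ∧
    odd 41 39 = [] ∧
    odd 41 40 = [] ∧
    odd 41 44 = [] ∧
    odd 41 47 = [] := by decide +kernel

theorem d41 (h2 : (2 : K) = 0) (u a b c d e f g : K) :
    (X 41 u)⁻¹ * F7 a b c d e f g * X 41 u = F7 a b c d e (f + u * a) (g + u * a ^ 2) :=
  conj_F7 h2 (by decide) u a b c d e f g _ _ _ _ _ _ _ (by
    obtain ⟨h1, h3, h4, h5, h6, h7, h8⟩ := o41
    intro j hj
    simp only [Mat1, h1, h3, h4, h5, h6, h7, h8]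
    simp only [L1, List.mem_cons, List.not_mem_nil, or_false] at hj
    rcases hj with rfl | rfl | rfl | rfl | rfl | rfl | rfl <;> simp [w7, Pi.single_apply] <;> ring)

/-! ### the classes -/

/-- the nodes of `C₃` -/
abbrev J3 : Set (Fin 4) := {k | k ≠ 3}

theorem S11_zero : ∀ s ∈ S11, s < chevF4.nroots ∧ vec chevF4 4 s 3 = 0 := by decide +kernel

theorem X_mem_PK3 {s : ℕ} (hs : s ∈ S11) (t : K) : X s t ∈ PK K J3 := by
  obtain ⟨h1, h2⟩ := S11_zero s hs
  refine LJ_le_PJ (X_le_LJ (x := vec chevF4 4 s) ⟨isRoot_vec hF cF h1, fun k hk => ?_⟩ (X_mem_XX h1 t))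
  have : k = 3 := by simpa using hk
  rw [this, h2]

theorem step3 {u u' : ↥(chevF4.group K)} {s : ℕ} (hs : s ∈ S11) {c : K} (h : (X s c)⁻¹ * u * X s c = u') :
    cls (PK K J3) u' = cls (PK K J3) u := by
  have e : u' = (X s c)⁻¹ * u * ((X s c)⁻¹)⁻¹ := by rw [inv_inv, h]
  rw [e]
  exact cls_conj _ ((PK K J3).inv_mem (X_mem_PK3 hs c)) u

theorem F7_two (f g : K) : F7 0 0 0 0 0 f g = X 44 f * X 47 g := by
  simp [F7, EL, L1, w7, X_zero]

theorem norm_F7 (h2 : (2 : K) = 0) {a b c d e f g : K} (h : a ≠ 0 ∨ b ≠ 0 ∨ c ≠ 0 ∨ d ≠ 0 ∨ e ≠ 0 ∨ f ≠ 0) :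
    ∃ a' b' c' d' e' f' g' : K, a' ≠ 0 ∧
      cls (PK K J3) (F7 a' b' c' d' e' f' g') = cls (PK K J3) (F7 a b c d e f g) := by
  by_cases ha : a = 0
  swap
  · exact ⟨a, b, c, d, e, f, g, ha, rfl⟩
  subst ha
  by_cases hb : b = 0
  swap
  · exact ⟨_, _, _, _, _, _, _, by simpa using hb, step3 (by decide) (d14 h2 1 0 b c d e f g)⟩
  by_cases hc : c = 0
  swap
  · exact ⟨_, _, _, _, _, _, _, by simpa using hc, step3 (by decide) (d13 h2 1 0 b c d e f g)⟩
  by_cases hd : d = 0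
  swap
  · exact ⟨_, _, _, _, _, _, _, by simpa using hd, step3 (by decide) (d12 h2 1 0 b c d e f g)⟩
  by_cases he : e = 0
  swap
  · exact ⟨_, _, _, _, _, _, _, by simpa using he, step3 (by decide) (d10 h2 1 0 b c d e f g)⟩
  have hf : f ≠ 0 := by simpa [hb, hc, hd, he] using h
  exact ⟨_, _, _, _, _, _, _, by simpa using hf, step3 (by decide) (d6 h2 1 0 b c d e f g)⟩

theorem norm_F7_two (h2 : (2 : K) = 0) {a : K} (ha : a ≠ 0) (b c d e f g : K) :
    ∃ g' : K, cls (PK K J3) (F7 a 0 0 0 0 0 g') = cls (PK K J3) (F7 a b c d e f g) := by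
  have hk : ∀ x : K, x + x / a * a = 0 := by
    intro x
    rw [div_mul_cancel₀ _ ha]
    linear_combination x * h2
  have h1 := step3 (by decide) (d33 h2 (b / a) a b c d e f g)
  rw [hk] at h1
  generalize f + b / a * e = f1 at h1
  have h3 := step3 (by decide) (d34 h2 (c / a) a 0 c d e f1 g)
  rw [hk] at h3
  generalize f1 + c / a * d = f2 at h3
  have h4 := step3 (by decide) (d35 h2 (d / a) a 0 0 d e f2 g)
  rw [hk] at h4
  generalize f2 + d / a * 0 = f3 at h4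
  have h5 := step3 (by decide) (d37 h2 (e / a) a 0 0 0 e f3 g)
  rw [hk] at h5
  generalize f3 + e / a * 0 = f4 at h5
  have h6 := step3 (by decide) (d41 h2 (f4 / a) a 0 0 0 0 f4 g)
  rw [hk] at h6
  exact ⟨_, h6.trans (h5.trans (h4.trans (h3.trans h1)))⟩

/-- the group `Z(V₁)` -/
theorem mem_zOne (h2 : (2 : K) = 0) {u : ↥(chevF4.group K)}
    (hu : u ∈ RGD.Sup (XX chevF4 4 K) {x | ∃ r ∈ L1, x = vec chevF4 4 r}) :
    ∃ a b c d e f g : K, u = F7 a b c d e f g := by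
  let A : Subgroup ↥(chevF4.group K) :=
    { carrier := {u | ∃ t : ℕ → K, u = EL L1 t}
      one_mem' := ⟨0, EL1_zero.symm⟩
      mul_mem' := by
        rintro _ _ ⟨t, rfl⟩ ⟨t', rfl⟩
        exact ⟨t + t', (EL1_add h2 t t').symm⟩
      inv_mem' := by
        rintro _ ⟨t, rfl⟩
        refine ⟨-t, ?_⟩
        rw [inv_eq_iff_mul_eq_one, ← EL1_add h2, add_neg_cancel, EL1_zero] }
  have hle : RGD.Sup (XX chevF4 4 K) {x | ∃ r ∈ L1, x = vec chevF4 4 r} ≤ A := by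
    refine RGD.Sup_le ?_
    rintro x ⟨r, hr, rfl⟩ y hy
    have hr' : r < chevF4.nroots := lt_of_L1 hr
    rw [Subgroup.mem_subgroupOf, XV_vec hF K hr'] at hy
    obtain ⟨t, ht⟩ := (mem_rootSubgroup_iff inF4 r _).1 hy
    refine ⟨Pi.single r t, ?_⟩
    rw [EL1_single hr]
    exact Subtype.ext ht
  obtain ⟨t, rfl⟩ := hle hu
  exact ⟨_, _, _, _, _, _, _, EL1_eq t⟩

/-- **`Z(V₁)`** -/
theorem z_one (h2 : (2 : K) = 0) {u : ↥(chevF4.group K)}
    (hu : u ∈ RGD.Sup (XX chevF4 4 K) {x | ∃ r ∈ L1, x = vec chevF4 4 r}) :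
    ∃ a b : K, X 44 a * X 47 b ∈ cls (PK K {k | k ≠ 3}) u := by
  obtain ⟨a, b, c, d, e, f, g, rfl⟩ := mem_zOne h2 hu
  by_cases h : a ≠ 0 ∨ b ≠ 0 ∨ c ≠ 0 ∨ d ≠ 0 ∨ e ≠ 0 ∨ f ≠ 0
  swap
  · push Not at h
    obtain ⟨rfl, rfl, rfl, rfl, rfl, rfl⟩ := h
    exact ⟨0, g, by rw [← F7_two]; exact mem_cls_self _ _⟩
  obtain ⟨a', b', c', d', e', f', g', ha, h3⟩ := norm_F7 h2 (g := g) h
  obtain ⟨g'', h4⟩ := norm_F7_two h2 ha b' c' d' e' f' g'
  rw [← h3, ← h4]
  have h5 := step3 (by decide) (d41 h2 1 a' 0 0 0 0 0 g'')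
  have h6 := step3 (by decide) (d6 h2 1 a' 0 0 0 0 (0 + 1 * a') (g'' + 1 * a' ^ 2))
  refine ⟨a', g'', ?_⟩
  rw [← h5, ← h6]
  have e1 : a' + 1 * (0 + 1 * a') = 0 := by linear_combination a' * h2
  have e2 : g'' + 1 * a' ^ 2 + 1 * (0 + 1 * a') ^ 2 = g'' := by linear_combination a' ^ 2 * h2
  have e3 : (0 : K) + 1 * a' = a' := by ring
  rw [e1, e2, e3, ← F7_two]
  exact mem_cls_self _ _

end Cfsg.Agent.H446.FE
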