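import Cfsg.Agent.H446.FE.UFour
import Cfsg.Agent.H997.FE.Defs

/-!
# `F₄(q)`, `q` even: the centres of the radicals consist of `2`-central elements (helper446, S2452, box U4)

`cen_of`: `X 44 a * X 47 b` is central in `U`, characteristic 2; `z4e : Z4e K`, `z1e : Z1e K`.
-/

set_option autoImplicit false
set_option linter.unusedSectionVars false

namespace Cfsg.Agent.H446.FE

open CoxeterSystem Cfsg.Agent.ChevalleyStructure.CoxeterGeom Cfsg.Agent.Tits.Roots Cfsg.Agent.Tits.Core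
  Cfsg.Agent.Tits.Exchange Cfsg.Agent.Nodes.Reps Cfsg.Agent.Nodes.BNOf Cfsg.Agent.Nodes.StabComb
  Cfsg.Agent.Nodes.Bruhat Cfsg.Agent.Nodes.OppDec Cfsg.Agent.Nodes.LeviDec Cfsg.Agent.Nodes.NormX
  Cfsg.Agent.Nodes.Coroot Cfsg.Agent.Nodes.RGDChev Cfsg.Agent.KFacts.RgdPar Cfsg.Agent.KFacts.RgdTI
  Cfsg.Agent.KFacts.RgdCent Cfsg.Agent.KFacts.RgdChevCoord Cfsg.Agent.Nodes.ChevCls
  Cfsg.Agent.OddHalf.NI.ModelChev Cfsg.Agent.H225.PPow
open Cfsg.Lie Cfsg.Agent.ChevalleyStructure Cfsg.Agent.ChevalleyStructure.Elts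
  Cfsg.Agent.ChevalleyStructure.RootVec Cfsg.Agent.ChevalleyStructure.NPerm
  Cfsg.Agent.ChevalleyStructure.CoxeterGeomTypes
open Cfsg.Agent.H701.F43.Cent (hF cF)
open Cfsg.Agent.H520.FC Cfsg.Agent.H446.FC
open Cfsg.Agent.H997.FE (UU Cen Z7 Z1e Z4e)

universe u

variable {K : Type u} [Field K]

theorem pos_tab : ∀ s < chevF4.nroots, (∀ i : Fin 4, 0 ≤ vec chevF4 4 s i) → ∀ r ∈ [44, 47], r ≠ s →
    odd s r = [] ∧ r ≠ chevF4.neg s := by
  decide +kernel

theorem mem_UU_of_pos {r : ℕ} (hr : r < chevF4.nroots) (h0 : ∀ i : Fin 4, 0 ≤ vec chevF4 4 r i) (t : K) :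
    X r t ∈ UU K :=
  RGD.le_Sup (X := XX chevF4 4 K) (S := RGD.Pos cF hF.isCartan) ⟨isRoot_vec hF cF hr, h0⟩ (X_mem_XX hr t)

/-- `X 44 a * X 47 b` is central in `U` -/
theorem central (h2 : (2 : K) = 0) (a b : K) {v : ↥(chevF4.group K)} (hv : v ∈ UU K) :
    X 44 a * X 47 b * v = v * (X 44 a * X 47 b) := by
  have hle : UU K ≤ Subgroup.centralizer {X 44 a * X 47 b} := by
    refine RGD.Sup_le ?_
    rintro x ⟨hx, h0⟩ y hy
    obtain ⟨s, hs, rfl⟩ := (isRoot_iff hF cF x).1 hx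
    rw [Subgroup.mem_subgroupOf, XV_vec hF K hs] at hy
    obtain ⟨t, ht⟩ := (mem_rootSubgroup_iff inF4 s _).1 hy
    have hyt : y = X s t := Subtype.ext ht
    have hc : ∀ r ∈ [44, 47], ∀ c : K, Commute (X r c) (X s t) := by
      intro r hr c
      by_cases h : r = s
      · subst h
        show X r c * X r t = X r t * X r c
        rw [← X_add, ← X_add, add_comm]
      · have hr' : r < 48 := by
          simp only [List.mem_cons, List.not_mem_nil, or_false] at hr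
          omega
        obtain ⟨h3, h4⟩ := pos_tab s hs h0 r hr h
        have h1 := rel2 h2 hs hr' h h4 t c
        rw [h3, List.map_nil, List.prod_nil, mul_one] at h1
        show X r c * X s t = X s t * X r c
        rw [mul_assoc, inv_mul_eq_iff_eq_mul] at h1
        exact h1
    rw [Subgroup.mem_centralizer_singleton_iff, hyt]
    exact ((hc 44 (by decide) a).mul_left (hc 47 (by decide) b)).eq.symm
  have h := hle hv
  rw [Subgroup.mem_centralizer_singleton_iff] at h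
  exact h.symm

theorem cen_of_cls (h2 : (2 : K) = 0) {P : Subgroup ↥(chevF4.group K)} {u : ↥(chevF4.group K)}
    (h : ∃ a b : K, X 44 a * X 47 b ∈ cls P u) : Cen u := by
  obtain ⟨a, b, g, -, h⟩ := h
  refine ⟨g, ?_, ?_⟩
  · rw [h]
    exact mul_mem (mem_UU_of_pos (by decide +kernel) (by decide +kernel) a)
      (mem_UU_of_pos (by decide +kernel) (by decide +kernel) b)
  · intro v hv
    rw [h]
    exact central h2 a b hv

theorem layer_tab : ∀ r ∈ Cfsg.Agent.H997.FE.L4, r < chevF4.nroots ∧ (∀ i : Fin 4, 0 ≤ vec chevF4 4 r i) ∧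
    2 ≤ vec chevF4 4 r 0 := by
  decide +kernel

/-- **`Z4e`** -/
theorem z4e [Finite K] [CharP K 2] : Z4e K := by
  intro u hu
  have h2 : (2 : K) = 0 := by exact_mod_cast CharP.cast_eq_zero K 2
  refine cen_of_cls h2 (P := PK K {k | k ≠ 0}) (z_four h2 ?_)
  refine RGD.Sup_mono ?_ hu
  rintro x ⟨r, hr, rfl⟩
  obtain ⟨h1, h0, h3⟩ := layer_tab r hr
  exact ⟨⟨isRoot_vec hF cF h1, h0, 0, fun h => h rfl, by omega⟩, h3⟩

/-- **`Z1e`** -/
theorem z1e [CharP K 2] : Z1e K := by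
  intro u hu
  have h2 : (2 : K) = 0 := by exact_mod_cast CharP.cast_eq_zero K 2
  exact cen_of_cls h2 (P := PK K {k | k ≠ 3}) (z_one h2 hu)

end Cfsg.Agent.H446.FE
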